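import Groth.Agent.RedRank.CentreDescent
import Groth.Agent.MaxTorusBC.Fibre
import Groth.Agent.S4120
import Groth.Agent.TorusQI.Torus

/-!
# Descent of a central maximal torus

A central maximal torus contains every subtorus, so its two pullbacks along a covering coincide and it descends.
-/

universe u

open CategoryTheory CategoryTheory.Limits MonoidalCategory CartesianMonoidalCategory MonObj AlgebraicGeometry

set_option backward.isDefEq.respectTransparency false
set_option backward.isDefEq.respectTransparency.types false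
set_option linter.style.haveILetI false
set_option synthInstance.maxHeartbeats 200000
set_option maxHeartbeats 1000000
set_option autoImplicit false

namespace Groth.Agent.CentMax

open GrpSchLib MaxTorTransp MaxTorusBC
open RedRank.CentreDescent (Central central_bc central_comp_iso)
open GrpLimLib (cmp)

variable {S : Scheme.{u}}

/-- A maximal torus stays maximal after base change. -/
theorem isMaximalTorus_bc {S' : Scheme.{u}} {T G : Over S} [GrpObj T] [GrpObj G]
    [LocallyOfFinitePresentation G.hom] [QuasiCompact G.hom] [QuasiSeparated G.hom]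
    {i : T ⟶ G} (h : Red.IsMaximalTorus i) (f : S' ⟶ S) :
    Red.IsMaximalTorus ((Over.pullback f).map i) := by
  haveI := h.1
  haveI := h.2.1
  haveI : (Over.pullback f).IsRightAdjoint := (Over.mapPullbackAdj f).isRightAdjoint
  refine ⟨inferInstance, inferInstance, SolvGrp.isTorus_bc f h.2.2.1, fun s' => ?_⟩
  have h1 : Max ((Over.pullback (Red.geomPt s')).map ((Over.pullback f).map i)) := by
    rw [max_cmp_iff (rfl : Red.geomPt s' ≫ f = _) i]
    refine (max_geom_iff i h.2.2.1 _ (f s') ?_).2 (h.2.2.2 _)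
    rw [Scheme.Hom.comp_apply]
    congr 1
    show (Spec.map _ ≫ S'.fromSpecResidueField s') _ = s'
    rw [Scheme.Hom.comp_apply, Scheme.fromSpecResidueField_apply]
  exact h1

/-- A maximal torus is carried to a maximal torus by isomorphisms. -/
theorem isMaximalTorus_of_iso {T T₂ G G₂ : Over S} [GrpObj T] [GrpObj T₂] [GrpObj G] [GrpObj G₂] {i : T ⟶ G}
    {i₂ : T₂ ⟶ G₂} (h : Red.IsMaximalTorus i) (hT₂ : Red.IsTorus T₂) (eT : T ≅ T₂) (eG : G ≅ G₂)
    [IsMonHom eG.hom] [IsMonHom i₂] (he : eT.hom ≫ i₂ = i ≫ eG.hom) : Red.IsMaximalTorus i₂ := by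
  haveI := h.2.1
  haveI : Mono i₂ := by
    have : i₂ = eT.inv ≫ i ≫ eG.hom := by rw [← he, Iso.inv_hom_id_assoc]
    rw [this]
    infer_instance
  refine ⟨inferInstance, inferInstance, hT₂, fun s => ?_⟩
  haveI : IsMonHom eG.inv := inferInstance
  haveI : IsMonHom ((Over.pullback (Red.geomPt s)).mapIso eG).inv :=
    inferInstanceAs (IsMonHom ((Over.pullback (Red.geomPt s)).map eG.inv))
  have hm : Max ((Over.pullback (Red.geomPt s)).map i) := h.2.2.2 s
  refine Max.of_iso hm ((Over.pullback (Red.geomPt s)).mapIso eT) ((Over.pullback (Red.geomPt s)).mapIso eG) ?_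
  show (Over.pullback (Red.geomPt s)).map eT.hom ≫ _ = _ ≫ (Over.pullback (Red.geomPt s)).map eG.hom
  rw [← Functor.map_comp, he, Functor.map_comp]

/-- Centrality descends along a covering. -/
theorem central_of_bc {S' : Scheme.{u}} (π : S' ⟶ S) (hπ : FpqcDescLib.IsCovering π) {H G : Over S} [GrpObj G]
    {v : H ⟶ G} (h : Central ((Over.pullback π).map v)) : Central v := by
  intro X x g
  let p : pullback X.hom π ⟶ X.left := pullback.fst _ _
  haveI : Epi p := ((FpqcDescLib.covers_of_isCovering hπ).pullback X.hom p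
    (pullback.snd X.hom π) (IsPullback.of_hasPullback X.hom π)).epi
  let Y : Over S' := Over.mk (pullback.snd X.hom π)
  let k : (Over.map π).obj Y ⟶ X := Over.homMk p pullback.condition
  haveI : Epi k.left := ‹Epi p›
  haveI : Epi k := Over.epi_of_epi_left _
  obtain ⟨x', hx'⟩ := (DSPtsLib.theta_bijective (g := π) (Y := Y) (H := H)).2 (k ≫ x)
  obtain ⟨g', hg'⟩ := (DSPtsLib.theta_bijective (g := π) (Y := Y) (H := G)).2 (k ≫ g)
  have h' := congrArg (DSPtsLib.theta π) (h Y x' g')
  rw [DSPtsLib.theta_mul, DSPtsLib.theta_mul, TorsionCent.theta_map', hx', hg', Category.assoc] at h'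
  rwa [← cancel_epi k, MonObj.comp_mul, MonObj.comp_mul]

/-- A central maximal torus descends along an fpqc covering. -/
theorem exists_descent {G : Over S} [GrpObj G] [LocallyOfFinitePresentation G.hom] [QuasiCompact G.hom]
    [QuasiSeparated G.hom] {S' : Scheme.{u}} (π : S' ⟶ S) [Surjective π]
    (hπ : FpqcDescLib.IsCovering π) {T' : Over S'} [GrpObj T'] (t' : T' ⟶ Red.bc π G)
    (hmax : Red.IsMaximalTorus t') (hcen : Central t') :
    ∃ (T : Over S) (_ : GrpObj T) (i : T ⟶ G), Red.IsMaximalTorus i ∧ Central i ∧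
      ∀ (R : Over S) [GrpObj R] (j : R ⟶ G) [IsMonHom j] [Mono j], Red.IsTorus R → ∃ f : R ⟶ T, f ≫ i = j := by
  haveI := hmax.1
  haveI := hmax.2.1
  haveI : (Over.pullback π).IsRightAdjoint := (Over.mapPullbackAdj π).isRightAdjoint
  have hfp : ∀ {W : Scheme.{u}} (g : W ⟶ S), LocallyOfFinitePresentation (Red.bc g G).hom ∧
      QuasiCompact (Red.bc g G).hom ∧ QuasiSeparated (Red.bc g G).hom := fun g =>
    ⟨inferInstanceAs (LocallyOfFinitePresentation (pullback.snd _ _)),
      inferInstanceAs (QuasiCompact (pullback.snd _ _)), inferInstanceAs (QuasiSeparated (pullback.snd _ _))⟩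
  haveI := (hfp π).1
  haveI := (hfp π).2.1
  haveI := (hfp π).2.2
  have hkey : ∀ (X : Scheme.{u}) (a b : X ⟶ pullback G.hom π),
      a ≫ pullback.fst G.hom π = b ≫ pullback.fst G.hom π →
        (∃ l, l ≫ t'.left = a) → ∃ l, l ≫ t'.left = b := by
    intro X a b hab ⟨l, hl⟩
    let σ : X ⟶ S := (a ≫ pullback.fst G.hom π) ≫ G.hom
    haveI := (hfp σ).1
    haveI := (hfp σ).2.1
    haveI := (hfp σ).2.2
    have ea : (a ≫ pullback.snd G.hom π) ≫ π = σ := by
      simp only [σ, Category.assoc, pullback.condition]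
    have eb : (b ≫ pullback.snd G.hom π) ≫ π = σ := by
      simp only [σ, hab]
      simp only [Category.assoc, pullback.condition]
    haveI : (Over.pullback (a ≫ pullback.snd G.hom π)).IsRightAdjoint :=
      (Over.mapPullbackAdj (a ≫ pullback.snd G.hom π)).isRightAdjoint
    haveI : (Over.pullback (b ≫ pullback.snd G.hom π)).IsRightAdjoint :=
      (Over.mapPullbackAdj (b ≫ pullback.snd G.hom π)).isRightAdjoint
    haveI := isMonHom_cmp_hom ea G
    haveI := isMonHom_cmp_hom eb G
    let ja := (Over.pullback (a ≫ pullback.snd G.hom π)).map t' ≫ (cmp ea G).hom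
    let ib := (Over.pullback (b ≫ pullback.snd G.hom π)).map t' ≫ (cmp eb G).hom
    haveI : Mono ((Over.pullback (a ≫ pullback.snd G.hom π)).map t') := inferInstance
    haveI : Mono ((Over.pullback (b ≫ pullback.snd G.hom π)).map t') := inferInstance
    haveI : IsMonHom ja := inferInstanceAs (IsMonHom (_ ≫ _))
    haveI : IsMonHom ib := inferInstanceAs (IsMonHom (_ ≫ _))
    haveI : Mono ja := inferInstanceAs (Mono (_ ≫ _))
    have hib : Red.IsMaximalTorus ib :=
      isMaximalTorus_of_iso (isMaximalTorus_bc hmax (b ≫ pullback.snd G.hom π)) (SolvGrp.isTorus_bc _ hmax.2.2.1)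
        (Iso.refl _) (cmp eb G) (Category.id_comp _)
    obtain ⟨w, hw⟩ := S4120.result X (Red.bc σ G) _ _ ib ja hib (SolvGrp.isTorus_bc _ hmax.2.2.1)
      fun Y t r => central_comp_iso (central_bc hcen _) (cmp eb G) Y t (r ≫ ja)
    let la : X ⟶ (Red.bc (a ≫ pullback.snd G.hom π) T').left :=
      pullback.lift l (𝟙 X) (by rw [Category.id_comp, ← Over.w t', reassoc_of% hl]; rfl)
    refine ⟨la ≫ w.left ≫ pullback.fst T'.hom _, pullback.hom_ext ?_ ?_⟩
    · rw [← hab, Category.assoc, Category.assoc, Category.assoc]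
      have e1 := congrArg (fun m => la ≫ m.left ≫ pullback.fst G.hom σ) hw
      simp only [ja, ib, Over.comp_left, Category.assoc, GrpLimLib.cmp_hom_fst, GrpLimLib.pr] at e1
      rw [reassoc_of% GrpLimLib.map_left_fst (h := b ≫ pullback.snd G.hom π),
        reassoc_of% GrpLimLib.map_left_fst (h := a ≫ pullback.snd G.hom π)] at e1
      refine e1.trans ?_
      simp only [la, pullback.lift_fst_assoc, reassoc_of% hl]
    · rw [Category.assoc, Category.assoc, Category.assoc]
      erw [show t'.left ≫ pullback.snd G.hom π = T'.hom from Over.w t', pullback.condition]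
      erw [← Category.assoc w.left, Over.w w]
      erw [pullback.lift_snd_assoc]
      rw [Category.id_comp]
  obtain ⟨T, iT, i, hi1, hi2, φ, hφ⟩ := exists_descent_mono t' hπ (TorusQI.isMultTypeFT_of_isTorus hmax.2.2.1) hkey
  haveI := hi1; haveI := hi2
  haveI : IsMonHom φ.hom := AGFLib.isMonHom_of_mul φ.hom fun X a b => by
    rw [← cancel_mono t', Category.assoc, hφ, MonObj.mul_comp, MonObj.mul_comp, Category.assoc, Category.assoc, hφ]
  have hT : Red.IsTorus T := isTorus_of_bc π hπ φ hmax.2.2.1
  haveI : IsMonHom (Iso.refl (Red.bc π G)).hom := inferInstanceAs (IsMonHom (𝟙 _))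
  haveI : IsMonHom ((Over.pullback π).map i) := inferInstance
  have hi : Red.IsMaximalTorus i := (isMaximalTorus_bc_iff i hT π inferInstance).2
    (isMaximalTorus_of_iso hmax (SolvGrp.isTorus_bc π hT) φ.symm (Iso.refl _) (by
      rw [Iso.refl_hom, Category.comp_id, Iso.symm_hom, ← hφ, Iso.inv_hom_id_assoc]))
  have hcen' : Central ((Over.pullback π).map i) := fun X x g => by
    have h := hcen X (x ≫ φ.hom) g
    rwa [Category.assoc, hφ] at h
  have hci : Central i := central_of_bc π hπ hcen'
  exact ⟨T, iT, i, hi, hci, fun R _ j _ _ hR => S4120.result S G T R i j hi hR fun X t r => hci X t (r ≫ j)⟩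

end Groth.Agent.CentMax
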